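import Groth.Prelude.Def_EtGlue
import Groth.Agent.Lib.Flatness.Tor
import Groth.Prelude.Def_DRing2
import Mathlib.LinearAlgebra.DirectSum.Finsupp

/-! # `Tor₁` along a glueing pair -/

set_option autoImplicit false
universe u

open TensorProduct Function
open GrothLib.Flatness

namespace GrothLib.GlueTor

variable {R R' : Type u} [CommRing R] [CommRing R'] [Algebra R R'] {f : R}

/-- `N` is killed elementwise by powers of `f`. -/
def FTors (f : R) (N : Type u) [AddCommGroup N] [Module R N] : Prop := ∀ x : N, ∃ n : ℕ, f ^ n • x = 0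

variable {N : Type u} [AddCommGroup N] [Module R N]

section Rep

variable (hb : EtGlue.QuotPowBijective R R' f)
include hb

lemma exists_rep (n : ℕ) (a : R') : ∃ r : R, ∃ s : R', a = algebraMap R R' r + f ^ n • s := by
  rcases Nat.eq_zero_or_pos n with rfl | hn
  · exact ⟨0, a, by simp⟩
  obtain ⟨q, hq⟩ := (hb n hn).2 (Ideal.Quotient.mk _ a)
  obtain ⟨r, rfl⟩ := Ideal.Quotient.mk_surjective q
  rw [Ideal.quotientMap_mk, Ideal.Quotient.eq, Ideal.map_span, Set.image_singleton,
    Ideal.mem_span_singleton'] at hq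
  obtain ⟨s, hs⟩ := hq
  refine ⟨r, -s, ?_⟩
  rw [Algebra.smul_def, mul_neg, mul_comm, hs]
  ring

lemma rep_unique (n : ℕ) (r : R) (s : R') (h : algebraMap R R' r = f ^ n • s) : ∃ t : R, r = f ^ n * t := by
  rcases Nat.eq_zero_or_pos n with rfl | hn
  · exact ⟨r, by simp⟩
  have h0 : Ideal.Quotient.mk (Ideal.span {f ^ n}) r = 0 := by
    apply (hb n hn).1
    rw [Ideal.quotientMap_mk, map_zero, Ideal.Quotient.eq_zero_iff_mem, h, Algebra.smul_def]
    exact Ideal.mul_mem_right _ _ (Ideal.mem_map_of_mem _ (Ideal.mem_span_singleton_self _))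
  obtain ⟨t, ht⟩ := Ideal.mem_span_singleton'.1 (Ideal.Quotient.eq_zero_iff_mem.1 h0)
  exact ⟨t, by rw [← ht, mul_comm]⟩

lemma smul_eq_of_rep {x : N} {m n : ℕ} (hm : f ^ m • x = 0) (hn : f ^ n • x = 0) {r₁ r₂ : R} {s₁ s₂ : R'}
    (h : algebraMap R R' r₁ + f ^ m • s₁ = algebraMap R R' r₂ + f ^ n • s₂) : r₁ • x = r₂ • x := by
  wlog hmn : m ≤ n generalizing m n r₁ r₂ s₁ s₂
  · exact (this hn hm h.symm (le_of_not_ge hmn)).symm
  obtain ⟨k, rfl⟩ := Nat.exists_eq_add_of_le hmn
  obtain ⟨t, ht⟩ := rep_unique hb m (r₁ - r₂) (f ^ k • s₂ - s₁) (by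
    rw [map_sub, smul_sub, smul_smul, ← pow_add, sub_eq_sub_iff_add_eq_add]
    linear_combination h)
  rw [← sub_eq_zero, ← sub_smul, ht, mul_comm, mul_smul, hm, smul_zero]

/-- The `R'`-action on a torsion module. -/
noncomputable def act (hN : FTors f N) (a : R') (x : N) : N :=
  (exists_rep hb (hN x).choose a).choose • x

lemma act_eq (hN : FTors f N) {a : R'} {x : N} {n : ℕ} (hn : f ^ n • x = 0) {r : R} {s : R'}
    (h : a = algebraMap R R' r + f ^ n • s) : act hb hN a x = r • x := by
  obtain ⟨s', hs'⟩ := (exists_rep hb (hN x).choose a).choose_spec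
  exact smul_eq_of_rep hb (hN x).choose_spec hn (hs'.symm.trans h)

/-- The retraction of `x ↦ 1 ⊗ x`. -/
noncomputable def retr (hN : FTors f N) : R' ⊗[R] N →ₗ[R] N :=
  TensorProduct.lift (LinearMap.mk₂ R (act hb hN)
    (fun a b x => by
      obtain ⟨n, hn⟩ := hN x
      obtain ⟨r, s, h⟩ := exists_rep hb n a
      obtain ⟨r', s', h'⟩ := exists_rep hb n b
      rw [act_eq hb hN hn h, act_eq hb hN hn h', ← add_smul,
        act_eq hb hN hn (r := r + r') (s := s + s') (by rw [map_add, smul_add, h, h']; ring)])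
    (fun c a x => by
      obtain ⟨n, hn⟩ := hN x
      obtain ⟨r, s, h⟩ := exists_rep hb n a
      rw [act_eq hb hN hn h, ← mul_smul,
        act_eq hb hN hn (r := c * r) (s := c • s) (by
          rw [h, smul_add, map_mul, Algebra.smul_def c (algebraMap R R' r), smul_comm])])
    (fun a x y => by
      obtain ⟨n, hn⟩ := hN x
      obtain ⟨m, hm⟩ := hN y
      obtain ⟨r, s, h⟩ := exists_rep hb (n + m) a
      have hn' : f ^ (n + m) • x = 0 := by rw [add_comm, pow_add, mul_smul, hn, smul_zero]
      have hm' : f ^ (n + m) • y = 0 := by rw [pow_add, mul_smul, hm, smul_zero]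
      rw [act_eq hb hN hn' h, act_eq hb hN hm' h, ← smul_add,
        act_eq hb hN (x := x + y) (by rw [smul_add, hn', hm', add_zero]) h])
    (fun c a x => by
      obtain ⟨n, hn⟩ := hN x
      obtain ⟨r, s, h⟩ := exists_rep hb n a
      rw [act_eq hb hN hn h, act_eq hb hN (x := c • x) (by rw [smul_comm, hn, smul_zero]) h, smul_comm]))

lemma eq_zero_of_one_tmul (hN : FTors f N) {x : N} (h : (1 : R') ⊗ₜ[R] x = 0) : x = 0 := by
  obtain ⟨n, hn⟩ := hN x
  have h1 := congrArg (retr hb hN) h
  simp only [retr, TensorProduct.lift.tmul, LinearMap.mk₂_apply, map_zero] at h1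
  rwa [act_eq hb hN hn (r := 1) (s := 0) (by simp), one_smul] at h1

lemma exists_one_tmul (hN : FTors f N) (ξ : R' ⊗[R] N) : ∃ x : N, (1 : R') ⊗ₜ[R] x = ξ := by
  induction ξ using TensorProduct.induction_on with
  | zero => exact ⟨0, TensorProduct.tmul_zero _ _⟩
  | tmul a x =>
    obtain ⟨n, hn⟩ := hN x
    obtain ⟨r, s, h⟩ := exists_rep hb n a
    refine ⟨r • x, ?_⟩
    rw [h, add_tmul, smul_tmul, hn, tmul_zero, add_zero, Algebra.algebraMap_eq_smul_one, smul_tmul]
  | add u v hu hv =>
    obtain ⟨x, rfl⟩ := hu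
    obtain ⟨y, rfl⟩ := hv
    exact ⟨x + y, TensorProduct.tmul_add _ _ _⟩

end Rep

section Pair

variable (h : EtGlue.IsGlueingPair R R' f)
include h

lemma eq_zero_of_map_eq_zero {r : R} {n : ℕ} (hn : f ^ n * r = 0) (hr : algebraMap R R' r = 0) : r = 0 := by
  refine h.2.1 (Prod.ext ?_ ?_)
  · simpa using hr
  · show algebraMap R (Localization.Away f) r = algebraMap R (Localization.Away f) 0
    rw [map_zero]
    exact (IsLocalization.map_eq_zero_iff (Submonoid.powers f) _ r).2 ⟨⟨f ^ n, n, rfl⟩, hn⟩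

lemma exists_preimage {a : R'} {n : ℕ} (ha : f ^ n • a = 0) :
    ∃ r : R, algebraMap R R' r = a ∧ f ^ n * r = 0 := by
  have hu : IsUnit (algebraMap R' (Localization.Away (algebraMap R R' f)) (algebraMap R R' f ^ n)) :=
    IsLocalization.map_units (Localization.Away (algebraMap R R' f)) (⟨_, n, rfl⟩ : Submonoid.powers (algebraMap R R' f))
  have h0 : algebraMap R' (Localization.Away (algebraMap R R' f)) a = 0 :=
    (hu.mul_right_eq_zero).1 (by rw [← map_mul, ← map_pow, ← Algebra.smul_def, ha, map_zero])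
  obtain ⟨r, hr, hr0⟩ := h.2.2.1 a 0 (by rw [h0, map_zero])
  refine ⟨r, hr, h.2.1 (Prod.ext ?_ ?_)⟩
  · show algebraMap R R' (f ^ n * r) = algebraMap R R' 0
    rw [map_mul, hr, map_zero, ← Algebra.smul_def, ha]
  · show algebraMap R (Localization.Away f) (f ^ n * r) = algebraMap R (Localization.Away f) 0
    rw [map_mul, hr0, mul_zero, map_zero]

/-- Quotients of `R` by `f`-power torsion. -/
theorem good_quotient_torsion (T : Submodule R R) (hT : ∀ r ∈ T, ∃ n : ℕ, f ^ n * r = 0) :
    Good R R' (R ⧸ T) := by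
  refine Good.of_presentation T.subtype T.mkQ T.injective_subtype T.mkQ_surjective
    (LinearMap.exact_subtype_mkQ T) Good.of_projective ((injective_iff_map_eq_zero _).2 fun ξ hξ => ?_)
  have hT' : FTors f T := fun x => (hT x.1 x.2).imp fun n hn => Subtype.ext hn
  obtain ⟨x, rfl⟩ := exists_one_tmul h.1 hT' ξ
  rw [LinearMap.lTensor_tmul] at hξ
  have h2 := congrArg (TensorProduct.rid R R') hξ
  rw [TensorProduct.rid_tmul, map_zero, ← Algebra.algebraMap_eq_smul_one] at h2
  obtain ⟨n, hn⟩ := hT x.1 x.2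
  rw [show x = 0 from Subtype.ext (eq_zero_of_map_eq_zero h hn h2), TensorProduct.tmul_zero]

/-- Torsion modules are good. -/
theorem good_of_fTors {Q : Type u} [AddCommGroup Q] [Module R Q] (hQ : FTors f Q) : Good R R' Q := by
  classical
  choose n hn using hQ
  letI : AddCommGroup (Q →₀ R) := Finsupp.instAddCommGroup
  let q : (Q →₀ R) →ₗ[R] Q := Finsupp.linearCombination R id
  let φ : (Q →₀ R) →ₗ[R] (Q →₀ R) := Finsupp.lsum R fun x => (f ^ n x) • Finsupp.lsingle x
  have hφs : ∀ x r, φ (Finsupp.single x r) = Finsupp.single x (f ^ n x * r) := fun x r => by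
    rw [Finsupp.lsum_single, LinearMap.smul_apply, Finsupp.lsingle_apply, Finsupp.smul_single, smul_eq_mul]
  have hqφ : ∀ v, q (φ v) = 0 := fun v => by
    induction v using Finsupp.induction_linear with
    | zero => simp
    | add a b ha hb => simp [ha, hb]
    | single x r =>
      rw [hφs, Finsupp.linearCombination_single, id, mul_comm, mul_smul, hn, smul_zero]
  let Z : Submodule R (Q →₀ R) := LinearMap.ker q
  refine Good.of_presentation (K := ↥Z) Z.subtype q Z.injective_subtype
    (Finsupp.linearCombination_surjective _ Function.surjective_id)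
    (LinearMap.exact_subtype_ker_map q) Good.of_projective ((injective_iff_map_eq_zero _).2 fun ξ hξ => ?_)
  let ψ : (Q →₀ R) →ₗ[R] Z := φ.codRestrict _ hqφ
  let P : Submodule R ↥Z := LinearMap.range ψ
  let ι : (↥Z ⧸ P) →ₗ[R] (Q →₀ R) ⧸ LinearMap.range φ :=
    Submodule.mapQ _ _ Z.subtype (by rintro _ ⟨v, rfl⟩; exact ⟨v, rfl⟩)
  have hι : Injective ι := by
    rw [injective_iff_map_eq_zero]
    intro t
    obtain ⟨z, rfl⟩ := Submodule.Quotient.mk_surjective _ t
    intro hz
    obtain ⟨v, hv⟩ := (Submodule.Quotient.mk_eq_zero _).1 hz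
    exact (Submodule.Quotient.mk_eq_zero _).2 ⟨v, Subtype.ext hv⟩
  have hTF : FTors f ((Q →₀ R) ⧸ LinearMap.range φ) := fun t => by
    obtain ⟨v, rfl⟩ := Submodule.Quotient.mk_surjective _ t
    induction v using Finsupp.induction_linear with
    | zero => exact ⟨0, by simp⟩
    | add a b ha hb =>
      obtain ⟨i, hi⟩ := ha
      obtain ⟨j, hj⟩ := hb
      refine ⟨i + j, ?_⟩
      rw [Submodule.Quotient.mk_add, smul_add, pow_add, mul_smul, mul_smul, hj, smul_zero, smul_comm, hi,
        smul_zero, add_zero]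
    | single x r =>
      refine ⟨n x, ?_⟩
      rw [← Submodule.Quotient.mk_smul, Submodule.Quotient.mk_eq_zero]
      exact ⟨Finsupp.single x r, by rw [hφs, Finsupp.smul_single, smul_eq_mul]⟩
  have hTZ : FTors f (↥Z ⧸ P) := fun t =>
    (hTF (ι t)).imp fun i hi => hι (by rw [map_smul, hi, map_zero])
  obtain ⟨w, hw⟩ := exists_one_tmul h.1 hTZ (P.mkQ.lTensor R' ξ)
  have hw0 : w = 0 := by
    refine hι ((eq_zero_of_one_tmul h.1 hTF ?_).trans (map_zero ι).symm)
    rw [← LinearMap.lTensor_tmul (R := R) R' ι, hw, ← LinearMap.lTensor_comp_apply,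
      show ι ∘ₗ P.mkQ = (LinearMap.range φ).mkQ ∘ₗ Z.subtype from rfl,
      LinearMap.lTensor_comp_apply, hξ, map_zero]
  rw [hw0, TensorProduct.tmul_zero] at hw
  obtain ⟨η, rfl⟩ := ((lTensor_exact R' (LinearMap.exact_map_mkQ_range ψ)
    P.mkQ_surjective) ξ).1 hw.symm
  rw [← LinearMap.lTensor_comp_apply, show Z.subtype ∘ₗ ψ = φ from rfl] at hξ
  let E := TensorProduct.finsuppScalarRight R R R' Q
  have hE : ∀ (η : R' ⊗[R] (Q →₀ R)) (x : Q), E (φ.lTensor R' η) x = f ^ n x • E η x := by
    intro η x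
    induction η using TensorProduct.induction_on with
    | zero => simp
    | add a b ha hb => simp [ha, hb, smul_add]
    | tmul a v =>
      have hv : φ v x = f ^ n x * v x := by
        induction v using Finsupp.induction_linear with
        | zero => simp
        | add c d hc hd => simp [hc, hd, mul_add]
        | single y r =>
          rw [hφs, Finsupp.single_apply, Finsupp.single_apply]
          split_ifs with hyx
          · rw [hyx]
          · rw [mul_zero]
      simp [E, TensorProduct.finsuppScalarRight_apply_tmul_apply, hv, mul_smul]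
  have hx : ∀ x, f ^ n x • E η x = 0 := fun x => by rw [← hE, hξ, map_zero, Finsupp.zero_apply]
  choose r hr hr' using fun x => exists_preimage h (hx x)
  have hη : η = ∑ x ∈ (E η).support, (1 : R') ⊗ₜ[R] Finsupp.single x (r x) := by
    apply E.injective
    ext y
    rw [map_sum, Finsupp.finsetSum_apply]
    simp only [E, TensorProduct.finsuppScalarRight_apply_tmul_apply, Finsupp.single_apply, ite_smul, zero_smul,
      ← Algebra.algebraMap_eq_smul_one, hr]
    simp only [apply_ite (algebraMap R R'), map_zero, Finset.sum_ite_eq', hr]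
    split_ifs with hy
    · rfl
    · exact Finsupp.notMem_support_iff.1 hy
  rw [hη, map_sum]
  refine Finset.sum_eq_zero fun x _ => ?_
  rw [LinearMap.lTensor_tmul, show ψ (Finsupp.single x (r x)) = 0 from
    Subtype.ext (by show φ _ = 0; rw [hφs, hr', Finsupp.single_zero]), TensorProduct.tmul_zero]

omit h in
theorem subsingleton_tor_one {Q : Type u} [AddCommGroup Q] [Module R Q] (hQ : Good R R' Q) :
    Subsingleton (DRing.Tor R 1 R' Q) :=
  ModuleCat.subsingleton_of_isZero ((isZero_tor_one_iff_good R R' Q).2 hQ)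

end Pair

end GrothLib.GlueTor
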